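import Groth.Agent.GeomPi0.Basic
import Groth.Agent.SpDesc.SchemeStage
import Mathlib

/-!
# Base changes of a space to quotients of the base ring
-/

set_option autoImplicit false
set_option linter.style.haveILetI false
set_option backward.isDefEq.respectTransparency false

universe u

open CategoryTheory CategoryTheory.Limits AlgebraicGeometry

noncomputable section

namespace Groth.Agent.BaseIdeal

open _root_.AlgSp Groth.Agent.AlgSpLib

variable {A : CommRingCat.{u}}

/-- the closed subscheme of an ideal, over the base -/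
abbrev Quot (I : Ideal A) : Over (Spec A) := Over.mk (Spec.map (CommRingCat.ofHom (Ideal.Quotient.mk I)))

/-- inclusion of closed subschemes -/
def quotHom {I I' : Ideal A} (h : I ≤ I') : Quot I' ⟶ Quot I :=
  Over.homMk (Spec.map (CommRingCat.ofHom (Ideal.Quotient.factor h))) (by
    show Spec.map _ ≫ Spec.map _ = Spec.map _
    rw [← Spec.map_comp]
    rfl)

/-- the base change to a quotient -/
abbrev bcq (X : Sp (Spec A)) (I : Ideal A) : Sp (Spec A) := X ⨯ (yon _).obj (Quot I)

variable {J : Type u} [Preorder J] [IsDirectedOrder J] [Nonempty J] (I : J → Ideal A) (hI : Monotone I)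

/-- the quotient rings -/
def ringFunctor : J ⥤ CommRingCat.{u} where
  obj j := CommRingCat.of (A ⧸ I j)
  map h := CommRingCat.ofHom (Ideal.Quotient.factor (hI (leOfHom h)))
  map_id j := by ext x; rfl
  map_comp f g := by ext x; rfl

/-- the cocone to the quotient by the union -/
def ringCocone : Cocone (ringFunctor I hI) where
  pt := CommRingCat.of (A ⧸ (⨆ j, I j))
  ι :=
    { app := fun j => CommRingCat.ofHom (Ideal.Quotient.factor (le_iSup I j))
      naturality := fun i j h => by
        refine CommRingCat.hom_ext ?_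
        apply Ideal.Quotient.ringHom_ext
        ext x
        rfl }

/-- it is a colimit -/
def ringIsColimit : IsColimit (ringCocone I hI) := by
  haveI : PreservesColimit (ringFunctor I hI) (forget CommRingCat.{u}) :=
    (inferInstance : PreservesFilteredColimits (forget CommRingCat.{u})).preserves_filtered_colimits _ |>.preservesColimit
  haveI : ReflectsColimit (ringFunctor I hI) (forget CommRingCat.{u}) := reflectsColimit_of_reflectsIsomorphisms _ _
  refine isColimitOfReflects (forget CommRingCat.{u}) (Types.FilteredColimit.isColimitOf _ _ ?_ ?_)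
  · intro x
    obtain ⟨a, rfl⟩ := Ideal.Quotient.mk_surjective (show A ⧸ (⨆ j, I j) from x)
    exact ⟨Classical.arbitrary J, Ideal.Quotient.mk _ a, rfl⟩
  · intro i j x y h
    obtain ⟨a, rfl⟩ := Ideal.Quotient.mk_surjective (show A ⧸ I i from x)
    obtain ⟨b, rfl⟩ := Ideal.Quotient.mk_surjective (show A ⧸ I j from y)
    have h' : a - b ∈ ⨆ j, I j := Ideal.Quotient.eq.1 h
    obtain ⟨l, hl⟩ := (Submodule.mem_iSup_of_directed I hI.directed_le).1 h'
    obtain ⟨m, hmi, hmj⟩ := directed_of (· ≤ ·) i j
    obtain ⟨n, hnm, hnl⟩ := directed_of (· ≤ ·) m l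
    exact ⟨n, homOfLE (hmi.trans hnm), homOfLE (hmj.trans hnm), Ideal.Quotient.eq.2 (hI hnl hl)⟩

/-- the closed subschemes -/
def quotDiagram : Jᵒᵖ ⥤ Over (Spec A) where
  obj j := Quot (I j.unop)
  map {i j} h := quotHom (hI (leOfHom h.unop))
  map_id i := by
    refine Over.OverMorphism.ext ?_
    show Spec.map _ = 𝟙 _
    rw [← Spec.map_id]
    congr 1
    ext x
    rfl
  map_comp {a b c} f g := by
    refine Over.OverMorphism.ext ?_
    show Spec.map _ = Spec.map _ ≫ Spec.map _
    rw [← Spec.map_comp]
    congr 1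
    ext x
    rfl

/-- their intersection -/
def quotCone : Cone (quotDiagram I hI) where
  pt := Quot (⨆ j, I j)
  π := { app := fun j => quotHom (le_iSup I j.unop)
         naturality := fun {i j} h => by
           refine Over.OverMorphism.ext ?_
           show 𝟙 _ ≫ Spec.map _ = Spec.map _ ≫ Spec.map _
           rw [Category.id_comp, ← Spec.map_comp]
           congr 1
           refine CommRingCat.hom_ext (Ideal.Quotient.ringHom_ext ?_)
           ext x
           rfl }

/-- it is a limit -/
def quotIsLimit : IsLimit (quotCone I hI) := by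
  haveI : IsCofiltered Jᵒᵖ := isCofiltered_op_of_isFiltered _
  haveI : IsConnected Jᵒᵖ := IsCofiltered.isConnected _
  refine isLimitOfReflects (Over.forget _) ?_
  refine IsLimit.ofIsoLimit ((IsLimit.postcomposeHomEquiv
    (NatIso.ofComponents (fun j => Iso.refl _) (fun {i j} h => by
      show _ ≫ 𝟙 _ = 𝟙 _ ≫ _
      rw [Category.comp_id, Category.id_comp]; rfl) :
        (ringFunctor I hI).op ⋙ Scheme.Spec ≅ quotDiagram I hI ⋙ Over.forget _) _).symm
    (isLimitOfPreserves Scheme.Spec (ringIsColimit I hI).op)) (Cone.ext (Iso.refl _) fun j => ?_)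
  show _ ≫ 𝟙 _ = 𝟙 _ ≫ _
  rw [Category.comp_id, Category.id_comp]
  rfl

variable (X : Sp (Spec A))

/-- the base changes -/
def bcDiagram : Jᵒᵖ ⥤ Sp (Spec A) := (quotDiagram I hI ⋙ yon _) ⋙ Limits.prod.functor.obj X

/-- their cone -/
def bcCone : Cone (bcDiagram I hI X) := (Limits.prod.functor.obj X).mapCone ((yon _).mapCone (quotCone I hI))

/-- which is a limit -/
theorem nonempty_bcIsLimit : Nonempty (IsLimit (bcCone I hI X)) := by
  classical
  haveI : IsCofiltered Jᵒᵖ := isCofiltered_op_of_isFiltered _
  have hy : IsLimit ((yon _).mapCone (quotCone I hI)) := isLimitOfPreserves _ (quotIsLimit I hI)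
  let j₀ : Jᵒᵖ := Opposite.op (Classical.arbitrary J)
  let sn : ∀ s : Cone (bcDiagram I hI X), Cone (quotDiagram I hI ⋙ yon _) := fun s =>
    { pt := s.pt
      π :=
        { app := fun j => s.π.app j ≫ Limits.prod.snd
          naturality := fun {i j} h => by
            show 𝟙 _ ≫ _ = _ ≫ _
            rw [Category.id_comp, ← s.w h, Category.assoc, Category.assoc]
            exact congrArg (s.π.app i ≫ ·) (Limits.prod.map_snd _ _) } }
  have hfst : ∀ (s : Cone (bcDiagram I hI X)) (j : Jᵒᵖ),
      s.π.app j ≫ Limits.prod.fst = s.π.app j₀ ≫ Limits.prod.fst := fun s j => by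
    obtain ⟨m, f, g, -⟩ := IsCofilteredOrEmpty.cone_objs j j₀
    have : ∀ {i : Jᵒᵖ} (h : m ⟶ i), s.π.app i ≫ Limits.prod.fst = s.π.app m ≫ Limits.prod.fst := fun {i} h => by
      rw [← s.w h, Category.assoc]
      exact congrArg (s.π.app m ≫ ·) ((Limits.prod.map_fst _ _).trans (Category.comp_id _))
    rw [this f, this g]
  refine ⟨{ lift := fun s => Limits.prod.lift (s.π.app j₀ ≫ Limits.prod.fst) (hy.lift (sn s)), fac := fun s j => ?_, uniq := fun s m hm => ?_ }⟩
  · show _ ≫ Limits.prod.map (𝟙 X) _ = _
    apply Limits.prod.hom_ext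
    · rw [Category.assoc, Limits.prod.map_fst, Category.comp_id, Limits.prod.lift_fst, ← hfst s j]
    · rw [Category.assoc, Limits.prod.map_snd, Limits.prod.lift_snd_assoc]
      exact hy.fac (sn s) j
  · apply Limits.prod.hom_ext
    · rw [Limits.prod.lift_fst, ← hm j₀, Category.assoc]
      exact congrArg (m ≫ ·) ((Limits.prod.map_fst _ _).trans (Category.comp_id _)).symm
    · rw [Limits.prod.lift_snd]
      refine hy.uniq (sn s) _ fun j => ?_
      show _ = s.π.app j ≫ Limits.prod.snd
      rw [← hm j, Category.assoc, Category.assoc]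
      exact congrArg (m ≫ ·) (Limits.prod.map_snd _ _).symm

variable {X}

include hI in
/-- a scheme over the union is a scheme at a stage -/
theorem exists_representable_stage (hX : IsAlgSpace X) (hq : IsQuasiCompactSp X) (hs : IsQuasiSeparatedSp X)
    {T : Over (Spec A)} (e : (yon _).obj T ≅ bcq X (⨆ j, I j)) :
    ∃ (j : J) (W : Over (Spec A)), Nonempty (bcq X (I j) ≅ (yon _).obj W) := by
  haveI : IsCofiltered Jᵒᵖ := isCofiltered_op_of_isFiltered _
  obtain ⟨hl⟩ := nonempty_bcIsLimit I hI X
  have haff : ∀ j : Ideal A, RepWith @IsAffineHom (Limits.prod.fst : bcq X j ⟶ X) := fun j =>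
    repWith_baseChange (GeomPi0.isPullback_prod X (Quot j)).flip
      ((repWith_yon_iff _).2 (inferInstanceAs (IsAffineHom (Spec.map _))))
  obtain ⟨j, W, hW⟩ := SpDesc.exists_representable_stage (bcDiagram I hI X) (fun j => GeomPi0.isAlgSpace_prod hX _)
    (fun i j h => (isAffineMor_iff_repWith _).2 (repWith_baseChange (GeomPi0.isPullback_prod_map X ((quotDiagram I hI).map h)).flip
      ((repWith_yon_iff _).2 (inferInstanceAs (IsAffineHom (Spec.map _))))))
    (fun j => (SpDesc.qcqs_of_affine (GeomPi0.isAlgSpace_prod hX _) hX (haff _) hq hs).1)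
    (fun j => (SpDesc.qcqs_of_affine (GeomPi0.isAlgSpace_prod hX _) hX (haff _) hq hs).2)
    (bcCone I hI X) hl e
  exact ⟨j.unop, W, hW⟩

end Groth.Agent.BaseIdeal
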